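import Groth.Agent.H26.SectionExtendDvr
import Groth.Agent.Lib.Flat55.GenericPoints

/-!
# Extending a section with prescribed values on the boundary
-/

set_option autoImplicit false
set_option linter.style.haveILetI false

universe u

open CategoryTheory CategoryTheory.Limits AlgebraicGeometry TopologicalSpace
open Groth.Agent.H26.SectionExtend

namespace Groth.Agent.Lib.SectExt62

/-- The preimage of a dense open under a flat morphism is dense. -/
theorem dense_preimage_of_flat {X S : Scheme.{u}} [IsLocallyNoetherian S] (f : X ⟶ S) [Flat f]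
    (U : S.Opens) (hU : Dense (U : Set S)) : Dense ((f ⁻¹ᵁ U : X.Opens) : Set X) := by
  rw [dense_iff_inter_open]
  rintro O hO ⟨x, hx⟩
  obtain ⟨η, hη, hηx⟩ := Flat55.GenericPoints.exists_specializes x
  exact ⟨η, hηx.mem_open hO hx,
    Flat55.GenericPoints.mem_dense_open hU (Flat55.GenericPoints.map_mem_of_flat f hη)⟩

/-- Maps into an affine open from a reduced scheme agreeing on a dense open agree. -/
theorem eq_of_dense {M P : Scheme.{u}} [IsReduced M] (V : P.Opens) (hV : IsAffineOpen V)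
    (a b : M ⟶ P) (ha : ∀ m, a m ∈ V) (hb : ∀ m, b m ∈ V) {M' : Scheme.{u}} (j : M' ⟶ M)
    [IsDominant j] (h : j ≫ a = j ≫ b) : a = b := by
  obtain ⟨a', rfl⟩ := exists_lift_opens a V ha
  obtain ⟨b', rfl⟩ := exists_lift_opens b V hb
  haveI : IsAffine (V : Scheme.{u}) := hV
  congr 1
  refine ext_of_isDominant j ?_
  rwa [← cancel_mono V.ι, Category.assoc, Category.assoc]

/-- A morphism from a reduced scheme with range in that of an immersion factors through it. -/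
theorem exists_fac {W T Z : Scheme.{u}} [IsReduced W] (j : T ⟶ Z) [IsImmersion j] (a : W ⟶ Z)
    (h : ∀ z, a z ∈ Set.range j) : ∃ c, c ≫ j = a := by
  let e := pullback.snd j a
  have hr : Set.range e = Set.univ := by
    rw [Scheme.Pullback.range_snd]
    exact Set.eq_univ_of_forall fun z => h z
  have : IsClosedImmersion e := IsClosedImmersion.of_isPreimmersion _ (hr ▸ isClosed_univ)
  have : Surjective e := ⟨Set.range_eq_univ.mp hr⟩
  have : IsIso e := isIso_of_isClosedImmersion_of_surjective e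
  exact ⟨inv e ≫ pullback.fst j a, by
    rw [Category.assoc, pullback.condition, IsIso.inv_hom_id_assoc]⟩

variable {X P Z : Scheme.{u}} [IsLocallyNoetherian X] (q : P ⟶ X) [LocallyOfFiniteType q]
  (U : X.Opens) (h : (U : Scheme.{u}) ⟶ P) (iZ : Z ⟶ X) [IsClosedImmersion iZ] (σ : Z ⟶ P)

/-- A local extension with the prescribed values. -/
theorem exists_local (hU : Dense (U : Set X)) (hh : h ≫ q = U.ι)
    (hσ : σ ≫ q = iZ) (hZ : ∀ z, iZ z ∉ U)
    (hnorm : ∀ z, IsDomain (X.presheaf.stalk (iZ z)) ∧ IsIntegrallyClosed (X.presheaf.stalk (iZ z)))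
    (H : ∀ (z : Z) (R : Type u) [CommRing R] [IsDomain R] [IsDiscreteValuationRing R]
        (u : Spec (CommRingCat.of R) ⟶ X), u (IsLocalRing.closedPoint R) = iZ z →
        ∀ ub : Spec (CommRingCat.of (FractionRing R)) ⟶ (U : Scheme.{u}),
          ub ≫ U.ι = genMap R ≫ u →
          ∃ h₁ : Spec (CommRingCat.of R) ⟶ P, h₁ ≫ q = u ∧
            h₁ (IsLocalRing.closedPoint R) = σ z ∧ genMap R ≫ h₁ = ub ≫ h) (z : Z) :
    ∃ (W : X.Opens) (s : (W : Scheme.{u}) ⟶ P), iZ z ∈ W ∧ s ≫ q = W.ι ∧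
      X.homOfLE (inf_le_left : W ⊓ U ≤ W) ≫ s = X.homOfLE (inf_le_right : W ⊓ U ≤ U) ≫ h ∧
      ∀ z' (hz' : iZ z' ∈ W), s ⟨iZ z', hz'⟩ = σ z' := by
  haveI := (hnorm z).1
  obtain ⟨U', hUU', hzU', s₀, hs₀, hext, hs₀z⟩ := extends_of_forall q U h hU hh (iZ z) (hZ z)
    (hnorm z).2 (σ z) (by rw [← Scheme.Hom.comp_apply, hσ]) (H z)
  obtain ⟨_, ⟨V, hV, rfl⟩, hpV, -⟩ := P.isBasis_affineOpens.exists_subset_of_mem_open
    (Set.mem_univ (σ z)) isOpen_univ
  let A : X.Opens := ⟨(iZ '' (σ ⁻¹' (V : Set P))ᶜ)ᶜ,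
    (iZ.isClosedEmbedding.isClosedMap _ (V.2.preimage σ.continuous).isClosed_compl).isOpen_compl⟩
  let W : X.Opens := (U'.ι ''ᵁ (s₀ ⁻¹ᵁ V)) ⊓ A
  have hWU' : W ≤ U' := inf_le_left.trans (by rintro _ ⟨w, -, rfl⟩; exact w.2)
  refine ⟨W, X.homOfLE hWU' ≫ s₀, ⟨⟨⟨iZ z, hzU'⟩, ?_, rfl⟩, ?_⟩, ?_, ?_, ?_⟩
  · change s₀ ⟨iZ z, hzU'⟩ ∈ V
    rw [hs₀z]; exact hpV
  · rintro ⟨z₁, hz₁, e⟩
    exact hz₁ (iZ.isClosedEmbedding.injective e ▸ hpV)
  · rw [Category.assoc, hs₀, Scheme.homOfLE_ι]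
  · conv_rhs => rw [← hext]
    simp only [← Category.assoc, Scheme.homOfLE_homOfLE]
  · intro z' hz'
    haveI := (hnorm z').1
    obtain ⟨R, iC, iD, iV, u, ub, hu, hub⟩ := exists_dvr U hU (iZ z') (hZ z')
    obtain ⟨l₁, -, hl₁, hg₁⟩ := H z' R u hu ub hub
    obtain ⟨l₂, -, hl₂, hg₂⟩ :=
      lift_of_extension q U h hUU' s₀ hs₀ hext (iZ z') (hWU' hz') R u hu ub hub
    have hzV : σ z' ∈ V := by
      by_contra hn
      exact hz'.2 ⟨z', hn, rfl⟩
    have hsV : s₀ ⟨iZ z', hWU' hz'⟩ ∈ V := by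
      obtain ⟨w, hw, e⟩ := hz'.1
      have : w = ⟨iZ z', hWU' hz'⟩ := Subtype.ext e
      exact this ▸ hw
    haveI : IsDominant (genMap R) := ⟨by
      haveI : Nonempty (Spec (CommRingCat.of (FractionRing R))) :=
        ⟨IsLocalRing.closedPoint (FractionRing R)⟩
      let w : Spec (CommRingCat.of (FractionRing R)) := IsLocalRing.closedPoint (FractionRing R)
      change Dense (Set.range (genMap R))
      refine Dense.mono (Set.singleton_subset_iff.mpr ⟨w, genMap_apply R w⟩) ?_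
      exact dense_iff_closure_eq.mpr (genericPoint_spec _).def⟩
    have he : l₁ = l₂ := eq_of_dense V hV l₁ l₂
      (fun m => forall_mem_of_closedPoint l₁ V (by rw [hl₁]; exact hzV) m)
      (fun m => forall_mem_of_closedPoint l₂ V (by rw [hl₂]; exact hsV) m) (genMap R) (hg₁.trans hg₂.symm)
    rw [← hl₁, he, hl₂, Scheme.Hom.comp_apply]
    exact congrArg s₀ (Subtype.ext (Scheme.homOfLE_apply _ _))

/-- Gluing the local extensions. -/
theorem exists_section [IsReduced Z] (hU : Dense (U : Set X)) (hh : h ≫ q = U.ι)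
    (hσ : σ ≫ q = iZ) (hZ : Set.range iZ = (U : Set X)ᶜ)
    (hnorm : ∀ z, IsDomain (X.presheaf.stalk (iZ z)) ∧ IsIntegrallyClosed (X.presheaf.stalk (iZ z)))
    (H : ∀ (z : Z) (R : Type u) [CommRing R] [IsDomain R] [IsDiscreteValuationRing R]
        (u : Spec (CommRingCat.of R) ⟶ X), u (IsLocalRing.closedPoint R) = iZ z →
        ∀ ub : Spec (CommRingCat.of (FractionRing R)) ⟶ (U : Scheme.{u}),
          ub ≫ U.ι = genMap R ≫ u →
          ∃ h₁ : Spec (CommRingCat.of R) ⟶ P, h₁ ≫ q = u ∧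
            h₁ (IsLocalRing.closedPoint R) = σ z ∧ genMap R ≫ h₁ = ub ≫ h) :
    ∃ s : X ⟶ P, s ≫ q = 𝟙 X ∧ U.ι ≫ s = h ∧ iZ ≫ s = σ := by
  have hZ' : ∀ z, iZ z ∉ U := fun z hz => by
    have : iZ z ∈ (U : Set X)ᶜ := hZ ▸ ⟨z, rfl⟩
    exact this hz
  choose W t hmem htq htU htZ using exists_local q U h iZ σ hU hh hσ hZ' hnorm H
  let F : Option Z → X.Opens := fun | none => U | some z => W z
  let fs : ∀ i, (F i : Scheme.{u}) ⟶ P := fun | none => h | some z => t z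
  have hsU : ∀ i, X.homOfLE (inf_le_left : F i ⊓ U ≤ F i) ≫ fs i =
      X.homOfLE (inf_le_right : F i ⊓ U ≤ U) ≫ h := fun | none => rfl | some z => htU z
  have hsq : ∀ i, fs i ≫ q = (F i).ι := fun | none => hh | some z => htq z
  have hsZ : ∀ i z' (hz' : iZ z' ∈ F i), fs i ⟨iZ z', hz'⟩ = σ z' :=
    fun | none => fun z' hz' => absurd hz' (hZ' z') | some z => htZ z
  obtain ⟨g, hg⟩ := exists_glue F fs (fun i j => by
    let N := F i ⊓ F j
    refine Scheme.hom_ext_of_forall _ _ fun n => ?_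
    by_cases hn : n.1 ∈ U
    · refine ⟨N.ι ⁻¹ᵁ U, hn, ?_⟩
      obtain ⟨c, hc⟩ := exists_lift_opens ((N.ι ⁻¹ᵁ U).ι ≫ N.ι) U fun w => w.2
      let ci : (↑(N.ι ⁻¹ᵁ U) : Scheme.{u}) ⟶ ↑(F i ⊓ U) := IsOpenImmersion.lift (F i ⊓ U).ι
        ((N.ι ⁻¹ᵁ U).ι ≫ N.ι) (by
          rw [Scheme.Opens.range_ι]; rintro _ ⟨w, rfl⟩; exact ⟨w.1.2.1, w.2⟩)
      let cj : (↑(N.ι ⁻¹ᵁ U) : Scheme.{u}) ⟶ ↑(F j ⊓ U) := IsOpenImmersion.lift (F j ⊓ U).ι
        ((N.ι ⁻¹ᵁ U).ι ≫ N.ι) (by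
          rw [Scheme.Opens.range_ι]; rintro _ ⟨w, rfl⟩; exact ⟨w.1.2.2, w.2⟩)
      have h₁ : (N.ι ⁻¹ᵁ U).ι ≫ X.homOfLE (inf_le_left : N ≤ F i) = ci ≫ X.homOfLE inf_le_left := by
        rw [← cancel_mono (F i).ι]
        simp only [Category.assoc, Scheme.homOfLE_ι, ci, IsOpenImmersion.lift_fac]
      have h₂ : (N.ι ⁻¹ᵁ U).ι ≫ X.homOfLE (inf_le_right : N ≤ F j) = cj ≫ X.homOfLE inf_le_left := by
        rw [← cancel_mono (F j).ι]
        simp only [Category.assoc, Scheme.homOfLE_ι, cj, IsOpenImmersion.lift_fac]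
      have h₃ : ci ≫ X.homOfLE (inf_le_right : F i ⊓ U ≤ U) = c := by
        rw [← cancel_mono U.ι, Category.assoc, Scheme.homOfLE_ι, hc, IsOpenImmersion.lift_fac]
      have h₄ : cj ≫ X.homOfLE (inf_le_right : F j ⊓ U ≤ U) = c := by
        rw [← cancel_mono U.ι, Category.assoc, Scheme.homOfLE_ι, hc, IsOpenImmersion.lift_fac]
      calc _ = ci ≫ X.homOfLE inf_le_left ≫ fs i := by rw [← Category.assoc, h₁, Category.assoc]
        _ = c ≫ h := by rw [hsU i, ← Category.assoc, h₃]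
        _ = cj ≫ X.homOfLE inf_le_left ≫ fs j := by rw [hsU j, ← Category.assoc cj, h₄]
        _ = _ := by rw [← Category.assoc, ← h₂, Category.assoc]
    · obtain ⟨z, hz⟩ : n.1 ∈ Set.range iZ := hZ ▸ hn
      haveI := (hnorm z).1
      obtain ⟨W', hzW', hW'⟩ := exists_integral_nhd (iZ z)
      obtain ⟨_, ⟨V, hV, rfl⟩, hpV, -⟩ := P.isBasis_affineOpens.exists_subset_of_mem_open
        (Set.mem_univ (σ z)) isOpen_univ
      let a := X.homOfLE (inf_le_left : N ≤ F i) ≫ fs i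
      let b := X.homOfLE (inf_le_right : N ≤ F j) ≫ fs j
      let M : (N : Scheme.{u}).Opens := a ⁻¹ᵁ V ⊓ b ⁻¹ᵁ V ⊓ N.ι ⁻¹ᵁ W'
      have hmn : n ∈ M := by
        refine ⟨⟨?_, ?_⟩, show n.1 ∈ W' from hz ▸ hzW'⟩
        · change fs i ((X.homOfLE inf_le_left) n) ∈ V
          rw [show (X.homOfLE (inf_le_left : N ≤ F i)) n = ⟨iZ z, hz ▸ n.2.1⟩ from Subtype.ext (by simp [hz]),
            hsZ]
          exact hpV
        · change fs j ((X.homOfLE inf_le_right) n) ∈ V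
          rw [show (X.homOfLE (inf_le_right : N ≤ F j)) n = ⟨iZ z, hz ▸ n.2.2⟩ from Subtype.ext (by simp [hz]),
            hsZ]
          exact hpV
      refine ⟨M, hmn, ?_⟩
      obtain ⟨d, hd⟩ := exists_lift_opens (M.ι ≫ N.ι) W' fun w => w.2.2
      haveI : IsOpenImmersion d := by
        haveI : IsOpenImmersion (d ≫ W'.ι) := hd ▸ inferInstance
        exact IsOpenImmersion.of_comp d W'.ι
      haveI : IsReduced (M : Scheme.{u}) := isReduced_of_isOpenImmersion d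
      let M' : (M : Scheme.{u}).Opens := (M.ι ≫ N.ι) ⁻¹ᵁ U
      haveI : IsDominant M'.ι := ⟨by
        change Dense (Set.range M'.ι)
        rw [Scheme.Opens.range_ι]
        exact hU.preimage (M.ι ≫ N.ι).isOpenEmbedding.isOpenMap⟩
      refine eq_of_dense V hV _ _ (fun w => w.2.1.1) (fun w => w.2.1.2) M'.ι ?_
      obtain ⟨c, hc⟩ := exists_lift_opens (M'.ι ≫ M.ι ≫ N.ι) U fun w => w.2
      obtain ⟨ci, hci⟩ := exists_lift_opens (M'.ι ≫ M.ι ≫ N.ι) (F i ⊓ U) fun w => ⟨w.1.1.2.1, w.2⟩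
      obtain ⟨cj, hcj⟩ := exists_lift_opens (M'.ι ≫ M.ι ≫ N.ι) (F j ⊓ U) fun w => ⟨w.1.1.2.2, w.2⟩
      have h₁ : M'.ι ≫ M.ι ≫ X.homOfLE (inf_le_left : N ≤ F i) = ci ≫ X.homOfLE inf_le_left := by
        rw [← cancel_mono (F i).ι]
        simp only [Category.assoc, Scheme.homOfLE_ι, hci]
      have h₂ : M'.ι ≫ M.ι ≫ X.homOfLE (inf_le_right : N ≤ F j) = cj ≫ X.homOfLE inf_le_left := by
        rw [← cancel_mono (F j).ι]
        simp only [Category.assoc, Scheme.homOfLE_ι, hcj]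
      have h₃ : ci ≫ X.homOfLE (inf_le_right : F i ⊓ U ≤ U) = c := by
        rw [← cancel_mono U.ι, Category.assoc, Scheme.homOfLE_ι, hc, hci]
      have h₄ : cj ≫ X.homOfLE (inf_le_right : F j ⊓ U ≤ U) = c := by
        rw [← cancel_mono U.ι, Category.assoc, Scheme.homOfLE_ι, hc, hcj]
      calc _ = (M'.ι ≫ M.ι ≫ X.homOfLE inf_le_left) ≫ fs i := by simp only [Category.assoc]
        _ = c ≫ h := by rw [h₁, Category.assoc, hsU i, ← Category.assoc, h₃]
        _ = (M'.ι ≫ M.ι ≫ X.homOfLE inf_le_right) ≫ fs j := by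
          rw [h₂, Category.assoc, hsU j, ← Category.assoc, h₄]
        _ = _ := by simp only [Category.assoc])
  have htop : (⊤ : X.Opens) ≤ ⨆ i, F i := fun x _ => by
    rw [Opens.mem_iSup]
    by_cases hx : x ∈ U
    · exact ⟨none, hx⟩
    · obtain ⟨z, rfl⟩ : x ∈ Set.range iZ := hZ ▸ hx
      exact ⟨some z, hmem z⟩
  let s : X ⟶ P := X.topIso.inv ≫ X.homOfLE htop ≫ g
  have hs : ∀ i, (F i).ι ≫ s = fs i := fun i => by
    rw [← hg i]
    change (F i).ι ≫ X.topIso.inv ≫ X.homOfLE htop ≫ g = _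
    rw [← Category.assoc, ← Category.assoc]
    congr 1
    rw [← cancel_mono (⨆ i, F i).ι]
    simp
  refine ⟨s, ?_, hs none, ?_⟩
  · refine Scheme.hom_ext_of_forall _ _ fun x => ?_
    obtain ⟨i, hi⟩ := Opens.mem_iSup.1 (htop (Set.mem_univ x : x ∈ (⊤ : X.Opens)))
    exact ⟨F i, hi, by rw [← Category.assoc, hs, hsq, Category.comp_id]⟩
  · haveI : IsImmersion σ := by
      haveI : IsImmersion (σ ≫ q) := hσ ▸ inferInstance
      exact IsImmersion.of_comp σ q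
    have hsqid : s ≫ q = 𝟙 X := by
      refine Scheme.hom_ext_of_forall _ _ fun x => ?_
      obtain ⟨i, hi⟩ := Opens.mem_iSup.1 (htop (Set.mem_univ x : x ∈ (⊤ : X.Opens)))
      exact ⟨F i, hi, by rw [← Category.assoc, hs, hsq, Category.comp_id]⟩
    obtain ⟨c, hc⟩ := exists_fac σ (iZ ≫ s) fun z => ⟨z, by
      have e := congrArg (fun φ => φ ⟨iZ z, hmem z⟩) (hs (some z))
      exact ((htZ z z (hmem z)).symm.trans e.symm)⟩
    have : c = 𝟙 Z := by
      rw [← cancel_mono iZ, Category.id_comp]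
      conv_lhs => rw [← hσ]
      rw [← Category.assoc, hc, Category.assoc, hsqid, Category.comp_id]
    rw [← hc, this, Category.id_comp]

end Groth.Agent.Lib.SectExt62
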